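import Mathlib

/-! The eigenvalue integrality condition for a strongly regular graph without triangles, in matrix form. -/

set_option autoImplicit false

namespace Cfsg.Agent.Invol.FischerCore

open Matrix

variable {V : Type*} [Fintype V] [DecidableEq V]

/-- A real symmetric matrix with `C ^ 3 = D • C` and nonzero integral trace forces `D` to be a square. -/
theorem isSquare_of_cube {C : Matrix V V ℝ} (hC : C.IsHermitian) {D : ℕ} (h3 : C * C * C = (D : ℝ) • C) {T : ℤ}
    (hT : T ≠ 0) (htr : C.trace = (T : ℝ)) : IsSquare D := by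
  classical
  have hev : ∀ i, hC.eigenvalues i = 0 ∨ hC.eigenvalues i = Real.sqrt D ∨ hC.eigenvalues i = -Real.sqrt D := by
    intro i
    set l := hC.eigenvalues i with hl
    set b : V → ℝ := ⇑(hC.eigenvectorBasis i) with hb
    have h1 : C *ᵥ b = l • b := by rw [hb, hl]; exact hC.mulVec_eigenvectorBasis i
    have hb0 : b ≠ 0 := fun e => by
      have := hC.eigenvectorBasis.orthonormal.ne_zero i
      exact this (by ext j; exact congrFun e j)
    have h2 : (C * C * C) *ᵥ b = (l * l * l) • b := by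
      rw [← mulVec_mulVec, ← mulVec_mulVec, h1, mulVec_smul, h1, smul_smul, mulVec_smul, h1, smul_smul]
    rw [h3, smul_mulVec, h1, smul_smul] at h2
    have h4 : (l * l * l - D * l) • b = 0 := by rw [sub_smul, h2, sub_self]
    have h5 : l * l * l - D * l = 0 := (smul_eq_zero.mp h4).resolve_right hb0
    have h6 : l * (l * l - D) = 0 := by linarith
    rcases mul_eq_zero.mp h6 with h7 | h7
    · exact Or.inl h7
    · right
      have : l * l = Real.sqrt D * Real.sqrt D := by rw [Real.mul_self_sqrt (Nat.cast_nonneg D)]; linarith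
      exact mul_self_eq_mul_self_iff.mp this
  obtain ⟨n, hn⟩ : ∃ n : ℤ, C.trace = (n : ℝ) * Real.sqrt D := by
    refine ⟨∑ i, if hC.eigenvalues i = 0 then 0 else if hC.eigenvalues i = Real.sqrt D then 1 else -1, ?_⟩
    rw [hC.trace_eq_sum_eigenvalues, Int.cast_sum, Finset.sum_mul]
    refine Finset.sum_congr rfl fun i _ => ?_
    simp only [RCLike.ofReal_real_eq_id, id_eq]
    by_cases h0 : hC.eigenvalues i = 0
    · simp [h0]
    by_cases hp : hC.eigenvalues i = Real.sqrt D
    · rw [if_neg h0, if_pos hp, hp]; simp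
    · rw [if_neg h0, if_neg hp]
      rcases hev i with h | h | h
      · exact absurd h h0
      · exact absurd h hp
      · rw [h]; simp
  rw [htr] at hn
  have hsq : (T : ℝ) ^ 2 = (n : ℝ) ^ 2 * (D : ℝ) := by
    rw [hn, mul_pow, Real.sq_sqrt (Nat.cast_nonneg D)]
  have hsqz : T ^ 2 = n ^ 2 * (D : ℤ) := by exact_mod_cast hsq
  have hnz : n ^ 2 ≠ 0 := fun e => hT (by
    rw [e, zero_mul] at hsqz
    exact pow_eq_zero_iff two_ne_zero |>.mp hsqz)
  have hdvd : n.natAbs ^ 2 ∣ T.natAbs ^ 2 := by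
    refine ⟨D, ?_⟩
    have := congrArg Int.natAbs hsqz
    simpa [Int.natAbs_mul, Int.natAbs_pow] using this
  obtain ⟨m, hm⟩ := (Nat.pow_dvd_pow_iff two_ne_zero).mp hdvd
  refine ⟨m, ?_⟩
  have := congrArg Int.natAbs hsqz
  simp only [Int.natAbs_mul, Int.natAbs_pow, Int.natAbs_natCast, hm] at this
  have hne : n.natAbs ^ 2 ≠ 0 := by
    rw [← Int.natAbs_pow]; exact Int.natAbs_ne_zero.mpr hnz
  refine mul_left_cancel₀ hne ?_
  rw [← this]; ring

/-- The parameters of a triangle-free strongly regular graph: the discriminant is a square. -/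
theorem srg_square (A : Matrix V V ℝ) (hA : A.IsHermitian) (hdiag : A.trace = 0) (k μ : ℕ) (hk : 3 ≤ k)
    (hμ : 1 ≤ μ) (hμk : μ ≤ k) [Nonempty V]
    (hJ : A * (Matrix.of fun _ _ => (1 : ℝ)) = (k : ℝ) • (Matrix.of fun _ _ => (1 : ℝ)))
    (hsq : A * A = (μ : ℝ) • (Matrix.of fun _ _ => (1 : ℝ)) - (μ : ℝ) • A + ((k : ℝ) - μ) • (1 : Matrix V V ℝ)) :
    μ * Fintype.card V + k = k * k + μ * k + μ ∧ IsSquare (μ * μ + 4 * (k - μ)) := by
  classical
  set J : Matrix V V ℝ := Matrix.of fun _ _ => (1 : ℝ) with hJdef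
  set v : ℝ := (Fintype.card V : ℝ) with hv
  have hv0 : v ≠ 0 := by
    rw [hv]; exact_mod_cast Fintype.card_ne_zero
  have hJH : J.IsHermitian := by ext i j; simp [hJdef]
  have hJA : J * A = (k : ℝ) • J := by
    have := congrArg Matrix.conjTranspose hJ
    rw [conjTranspose_mul, hA.eq, hJH.eq, conjTranspose_smul, hJH.eq] at this
    simpa using this
  have hJJ : J * J = v • J := by
    ext i j; simp [hJdef, Matrix.mul_apply, hv]
  have hcount : (μ : ℝ) * v + k = k * k + μ * k + μ := by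
    have h1 : A * A * J = ((μ : ℝ) • J - (μ : ℝ) • A + ((k : ℝ) - μ) • (1 : Matrix V V ℝ)) * J := by rw [hsq]
    rw [Matrix.mul_assoc, hJ, Matrix.mul_smul, hJ, smul_smul, Matrix.add_mul, Matrix.sub_mul, Matrix.smul_mul,
      Matrix.smul_mul, Matrix.smul_mul, Matrix.one_mul, hJJ, hJ, smul_smul, smul_smul] at h1
    obtain ⟨i⟩ := (inferInstance : Nonempty V)
    have := congrFun (congrFun h1 i) i
    simp [hJdef] at this
    linarith
  have hnat : μ * Fintype.card V + k = k * k + μ * k + μ := by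
    rw [hv] at hcount; exact_mod_cast hcount
  refine ⟨hnat, ?_⟩
  set s : ℝ := (2 * k + μ) / v with hs
  set Δ : ℕ := μ * μ + 4 * (k - μ) with hΔ
  have hΔR : (Δ : ℝ) = μ * μ + 4 * ((k : ℝ) - μ) := by
    rw [hΔ]; push_cast [Nat.cast_sub hμk]; ring
  set C : Matrix V V ℝ := (2 : ℝ) • A + (μ : ℝ) • (1 : Matrix V V ℝ) - s • J with hC
  have hCH : C.IsHermitian := by
    rw [hC, Matrix.IsHermitian, conjTranspose_sub, conjTranspose_add, conjTranspose_smul, conjTranspose_smul,
      conjTranspose_smul, hA.eq, hJH.eq, conjTranspose_one]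
    simp
  have hCJ : C * J = 0 := by
    rw [hC, Matrix.sub_mul, Matrix.add_mul, Matrix.smul_mul, Matrix.smul_mul, Matrix.smul_mul, hJ, Matrix.one_mul,
      hJJ, smul_smul, smul_smul, ← add_smul, ← sub_smul]
    rw [hs, div_mul_cancel₀ _ hv0, sub_self, zero_smul]
  have hCC : C * C = (Δ : ℝ) • (1 : Matrix V V ℝ) - ((Δ : ℝ) / v) • J := by
    rw [hC]
    simp only [Matrix.sub_mul, Matrix.mul_sub, Matrix.add_mul, Matrix.mul_add, Matrix.smul_mul, Matrix.mul_smul,
      Matrix.one_mul, Matrix.mul_one, hsq, hJ, hJA, hJJ]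
    match_scalars
    · rw [hs, hΔR]; field_simp; linarith
    · ring
    · rw [hΔR]; ring
  have h3 : C * C * C = (Δ : ℝ) • C := by
    have hJC : J * C = 0 := by
      have := congrArg Matrix.conjTranspose hCJ
      rw [conjTranspose_mul, hCH.eq, hJH.eq, conjTranspose_zero] at this
      exact this
    rw [hCC, Matrix.sub_mul, Matrix.smul_mul, Matrix.smul_mul, Matrix.one_mul, hJC, smul_zero, sub_zero]
  refine isSquare_of_cube hCH h3 (T := (μ : ℤ) * Fintype.card V - (2 * k + μ)) ?_ ?_
  · intro h0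
    have : μ * Fintype.card V = 2 * k + μ := by
      have h1 : ((μ * Fintype.card V : ℕ) : ℤ) = ((2 * k + μ : ℕ) : ℤ) := by push_cast; linarith
      exact_mod_cast h1
    nlinarith
  · rw [hC, trace_sub, trace_add, trace_smul, trace_smul, trace_smul, hdiag, trace_one]
    have : J.trace = v := by simp [hJdef, Matrix.trace, hv]
    rw [this, smul_eq_mul, smul_eq_mul, smul_eq_mul, hs, div_mul_cancel₀ _ hv0]
    push_cast [hv]; ring

end Cfsg.Agent.Invol.FischerCore
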