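import Cfsg.Agent.Lib.Invol.FischerCore.Perp
import Cfsg.Agent.Lib.Invol.FischerCore.SrgSquare
import Cfsg.Agent.Lib.Spor.ThreeTransFiveHom
import Cfsg.Agent.Lib.Spor.ThreePowerProducts

/-! A noncentral odd core of the local group forces the symmetric group of degree five. -/

set_option autoImplicit false
set_option linter.unusedSectionVars false
set_option linter.style.haveILetI false

namespace Cfsg.Agent.Invol.FischerCore

open Cfsg Cfsg.Agent.Spor.ThreeTrans
open Cfsg.Agent.Spor.ThreeTrans renaming mul_self → dsq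

variable {G : Type*} [Group G] [Finite G] {D : Set G}

/-- A closed set of pairwise noncommuting members has 3-power size. -/
theorem card_pow_three (h : IsThreeTranspositionClass D) {S : Set G} (hS : S ⊆ D) (hne : S.Nonempty)
    (hnc : ∀ a ∈ S, ∀ b ∈ S, a ≠ b → ¬ Commute a b) (hcl : ∀ a ∈ S, ∀ b ∈ S, a * b * a ∈ S) :
    ∃ i : ℕ, S.ncard = 3 ^ i := by
  classical
  haveI : Fact (Nat.Prime 3) := ⟨Nat.prime_three⟩
  have hs := h.1
  obtain ⟨a, ha⟩ := hne
  set L := Subgroup.closure S with hL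
  have haL : a ∈ L := Subgroup.subset_closure ha
  set a' : L := ⟨a, haL⟩ with ha'
  have hstab : ∀ g ∈ L, ∀ s ∈ S, g * s * g⁻¹ ∈ S := by
    intro g hg
    induction hg using Subgroup.closure_induction_left with
    | one => intro s hsS; simpa using hsS
    | mul_left e he w _ ih =>
      intro s hsS
      have := hcl e he _ (ih s hsS)
      simpa [mul_assoc, inv_eq hs (hS he)] using this
    | inv_mul_cancel e he w _ ih =>
      intro s hsS
      have := hcl e he _ (ih s hsS)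
      simpa [mul_assoc, inv_eq hs (hS he)] using this
  have hd : orderOf a' = 2 := by rw [Subgroup.orderOf_mk]; exact hs.1 a (hS ha)
  have hprod : ∀ g : L, ∃ j : ℕ, orderOf (a' * (g * a' * g⁻¹)) = 3 ^ j := by
    intro g
    set b : G := (g : G) * a * (g : G)⁻¹ with hb
    have hbS : b ∈ S := hstab g g.2 a ha
    have h3 : (a * b) ^ 3 = 1 := by
      by_cases e : a = b
      · rw [← e, dsq hs (hS ha), one_pow]
      · rcases hs.2 a (hS ha) b (hS hbS) with h2 | h3
        · exact absurd (Cfsg.Agent.Spor.ThreeTrans.commute_of_sq h (hS ha) (hS hbS) h2) (hnc a ha b hbS e)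
        · exact h3
    have : (a' * (g * a' * g⁻¹)) ^ 3 = 1 := Subtype.ext (by simpa [hb] using h3)
    obtain ⟨j, -, hj⟩ := (Nat.dvd_prime_pow Nat.prime_three).mp (by simpa using orderOf_dvd_of_pow_eq_one this :
      orderOf (a' * (g * a' * g⁻¹)) ∣ 3 ^ 1)
    exact ⟨j, hj⟩
  set P := pCore 3 L with hP
  have hPp : IsPGroup 3 P := Cfsg.Agent.Grp.pCore_isPGroup
  have hmem : ∀ b ∈ S, ∃ n ∈ P, (n : G) * a * (n : G)⁻¹ = b := by
    intro b hb
    by_cases e : a = b
    · exact ⟨1, one_mem _, by simp [e]⟩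
    have hbr := braid hs (hS ha) (hS hb) (hnc a ha b hb e)
    set b' : L := ⟨b, Subgroup.subset_closure hb⟩
    have hconj : a' * b' * a' * (a' * b')⁻¹ = b' := by
      apply Subtype.ext
      show a * b * a * (a * b)⁻¹ = b
      rw [mul_inv_rev, inv_eq hs (hS ha), inv_eq hs (hS hb), hbr]
      simp [mul_assoc, mul_self_mul hs (hS hb), dsq hs (hS ha)]
    refine ⟨a' * b', ?_, ?_⟩
    · have := Cfsg.Agent.Spor.ThreePower.mul_conj_mem_pCore hd hprod (a' * b')
      rwa [hconj] at this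
    · exact congrArg Subtype.val hconj
  let φ : P →* MulAut G := MulAut.conj.comp (L.subtype.comp P.subtype)
  letI : MulAction P G := MulAction.compHom G φ
  have hsmul : ∀ (n : P) (g : G), n • g = ((n : L) : G) * g * ((n : L) : G)⁻¹ := fun n g => rfl
  have horb : MulAction.orbit P a = S := by
    ext b
    constructor
    · rintro ⟨n, rfl⟩
      show n • a ∈ S
      rw [hsmul]
      exact hstab _ (n : L).2 a ha
    · intro hb
      obtain ⟨n, hn, e⟩ := hmem b hb
      exact ⟨⟨n, hn⟩, e⟩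
  haveI : Finite (MulAction.orbit P a) := Set.Finite.to_subtype (Set.toFinite _)
  obtain ⟨i, hi⟩ := hPp.card_orbit a
  exact ⟨i, by rw [← horb, ← hi, Nat.card_coe_set_eq]⟩

/-- The arithmetic of the parameters. -/
theorem params {i j : ℕ} (hji : j < i) (hsq : IsSquare (3 ^ j * 3 ^ j + 4 * (3 ^ i - 3 ^ j))) : i = 1 ∧ j = 0 := by
  obtain ⟨m, hm⟩ := hsq
  rcases Nat.eq_zero_or_pos j with rfl | hj
  · refine ⟨?_, rfl⟩
    by_contra hi
    obtain ⟨t, rfl⟩ : ∃ t, i = t + 2 := ⟨i - 2, by omega⟩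
    have h9 : (3 : ℕ) ^ (t + 2) = 9 * 3 ^ t := by ring
    simp only [pow_zero, one_mul, h9] at hm
    have h1 : 1 ≤ 3 ^ t := Nat.one_le_pow _ _ (by norm_num)
    have hmm : (m * m) % 9 = 6 := by rw [← hm]; omega
    rw [Nat.mul_mod] at hmm
    have : m % 9 < 9 := Nat.mod_lt _ (by norm_num)
    interval_cases hr : m % 9 <;> simp at hmm
  · exfalso
    obtain ⟨t, rfl⟩ : ∃ t, i = j + 1 + t := ⟨i - j - 1, by omega⟩
    obtain ⟨u, rfl⟩ : ∃ u, j = u + 1 := ⟨j - 1, by omega⟩
    set X : ℕ := 3 ^ u + 4 * 3 ^ t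
    have hX : m * m = 3 ^ (u + 1) * (3 * X - 4) := by
      rw [← hm]
      have e1 : (3 : ℕ) ^ (u + 1 + 1 + t) - 3 ^ (u + 1) = 3 ^ (u + 1) * (3 * 3 ^ t - 1) := by
        rw [Nat.mul_sub, mul_one]; congr 1; ring
      rw [e1]
      have h1 : 1 ≤ 3 ^ t := Nat.one_le_pow _ _ (by norm_num)
      have h4 : (3 : ℕ) ^ (u + 1) = 3 ^ u * 3 := pow_succ 3 u
      have h2 : 3 * X - 4 = 3 ^ (u + 1) + 4 * (3 * 3 ^ t - 1) := by
        simp only [X]; omega
      rw [h2]; ring
    have hX1 : 2 ≤ X := by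
      have : 1 ≤ 3 ^ t := Nat.one_le_pow _ _ (by norm_num)
      have : 1 ≤ 3 ^ u := Nat.one_le_pow _ _ (by norm_num)
      omega
    set w := 3 * X - 4
    have hw : w % 3 = 2 := by omega
    clear_value w
    clear hm hji hj
    generalize u + 1 = n at hX
    clear X hX1 t u
    induction n using Nat.twoStepInduction generalizing m with
    | zero =>
      have : (m * m) % 3 = 2 := by rw [hX]; simp [hw]
      rw [Nat.mul_mod] at this
      have : m % 3 < 3 := Nat.mod_lt _ (by norm_num)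
      interval_cases hr : m % 3 <;> simp_all
    | one =>
      have h3 : 3 ∣ m := (Nat.prime_three.dvd_mul.mp (Dvd.intro w (by rw [hX, pow_one]))).elim id id
      obtain ⟨r, rfl⟩ := h3
      have : w = 3 * (r * r) := by
        have : 3 * w = 3 * (3 * (r * r)) := by linarith
        omega
      omega
    | more n ih _ =>
      have h3 : 3 ∣ m := by
        refine (Nat.prime_three.dvd_mul.mp ⟨3 ^ (n + 1) * w, ?_⟩).elim id id
        rw [hX]; ring
      obtain ⟨r, rfl⟩ := h3
      refine ih r ?_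
      have : 9 * (r * r) = 9 * (3 ^ n * w) := by
        rw [show 9 * (r * r) = 3 * r * (3 * r) by ring, hX]; ring
      omega

/-- With no two commuting members in any `D_x`, the parameters are those of the Petersen graph. -/
theorem petersen (H : Hyp D) {x d d' : G} (hx : x ∈ D) (hb : Blk D x d d')
    (hno : ∀ u ∈ perp D x, ∀ c ∈ perp D x, c ≠ u → ¬ Commute c u) : D.ncard = 10 := by
  classical
  have h := H.cls
  have hs := h.1
  have hno' : ∀ a ∈ D, ∀ u ∈ perp D a, ∀ c ∈ perp D a, c ≠ u → ¬ Commute c u := by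
    intro a ha u hu c hc hne hcu
    obtain ⟨g, rfl⟩ := transitive h hx ha
    rw [perp_conj h] at hu hc
    obtain ⟨u, hu, rfl⟩ := hu
    obtain ⟨c, hc, rfl⟩ := hc
    exact hno u hu c hc (fun e => hne (by rw [e])) ((commute_conj_iff g c u).mp hcu)
  obtain ⟨hd, hd', hdd', -⟩ := hb
  obtain ⟨i, hi⟩ := card_pow_three h (S := perp D x) (fun u hu => hu.1) ⟨d, hd⟩
    (fun a ha b hb hab => hno b hb a ha hab)
    (fun a ha b hb => by
      have := perp_conj' h ha.2.2.symm hb
      rwa [inv_eq hs ha.1] at this)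
  -- a fixed noncommuting pair
  have hbothne : d ≠ d' := fun e => hdd' (e ▸ Commute.refl d)
  have hboth1 : x ∈ both D d d' := ⟨⟨hx, fun e => hd.2.1 e.symm, hd.2.2.symm⟩, hd'.2.2.symm⟩
  have hd'a : d' ∈ apart D d := ⟨hd'.1, fun e => hdd' e.symm⟩
  obtain ⟨j, hj⟩ := card_pow_three h (S := both D d d') (fun u hu => hu.1.1) ⟨x, hboth1⟩
    (fun a ha b hb hab => hno' d hd.1 b hb.1 a ha.1 hab)
    (fun a ha b hb => by
      have := perp_conj' h ha.1.2.2.symm hb.1
      rw [inv_eq hs ha.1.1] at this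
      refine ⟨this, ?_⟩
      exact (ha.2.mul_right hb.2).mul_right ha.2)
  have hk : ∀ a ∈ D, (perp D a).ncard = 3 ^ i := fun a ha => (perp_card h ha hx).trans hi
  have hμ : ∀ a ∈ D, ∀ b ∈ D, ¬ Commute a b → (both D a b).ncard = 3 ^ j := by
    intro a ha b hb hab
    obtain ⟨g, rfl⟩ := transitive h hd.1 ha
    set b₀ := g⁻¹ * b * g with hb₀
    have eb : g * b₀ * g⁻¹ = b := by simp [hb₀, mul_assoc]
    have hb₀a : b₀ ∈ apart D d := by
      refine ⟨by simpa [hb₀] using conj_mem h g⁻¹ hb, fun e => hab ?_⟩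
      rw [← eb]; exact ((commute_conj_iff g b₀ d).mpr e).symm
    obtain ⟨l, hl, hlb⟩ := transitive_apart H hd.1 hd'a hb₀a
    rw [← eb, show both D (g * d * g⁻¹) (g * b₀ * g⁻¹) = (fun e => g * e * g⁻¹) '' both D d b₀ from ?_,
      Set.ncard_image_of_injective _ fun u v e => by simpa using e, ← hlb,
      both_ncard_conj h (localGroup_commute hl), hj]
    ext e
    simp only [both, Set.mem_setOf_eq, perp_conj h, Set.mem_image]
    constructor
    · rintro ⟨⟨u, hu, rfl⟩, hc⟩
      exact ⟨u, ⟨hu, (commute_conj_iff g b₀ u).mp hc⟩, rfl⟩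
    · rintro ⟨u, ⟨hu, hc⟩, rfl⟩
      exact ⟨⟨u, hu, rfl⟩, (commute_conj_iff g b₀ u).mpr hc⟩
  have hμk : 3 ^ j < 3 ^ i := by
    rw [← hj, ← hk d hd.1]
    refine Set.ncard_lt_ncard ((Set.ssubset_iff_subset_ne).mpr ⟨fun u hu => hu.1, fun e => ?_⟩) (Set.toFinite _)
    refine not_subset H hd.1 hd'.1 hbothne fun y hy => ?_
    rw [← e] at hy
    exact ⟨hy.1.1, fun e' => hdd' (e' ▸ hy.1.2.2), hy.2⟩
  have hji : j < i := (Nat.pow_lt_pow_iff_right (by norm_num)).mp hμk
  haveI : Fintype D := Fintype.ofFinite _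
  haveI : Nonempty D := ⟨⟨x, hx⟩⟩
  let A : Matrix D D ℝ := Matrix.of fun a b => if (b : G) ∈ perp D (a : G) then 1 else 0
  have hsymm : ∀ a b : D, (b : G) ∈ perp D (a : G) ↔ (a : G) ∈ perp D (b : G) := fun a b =>
    ⟨perp_symm a.2, perp_symm b.2⟩
  have hA : A.IsHermitian := by
    ext a b
    simp only [A, Matrix.conjTranspose_apply, Matrix.of_apply, hsymm a b, star_trivial]
  have htr : A.trace = 0 := by
    simp [A, Matrix.trace, perp]
  have hcard : ∀ (S : Set G), S ⊆ D → (Finset.univ.filter fun b : D => (b : G) ∈ S).card = S.ncard := by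
    intro S hS
    rw [← Set.ncard_coe_finset, ← Set.ncard_image_of_injective _ Subtype.val_injective]
    congr 1
    ext b; simp; exact fun hb => hS hb
  have hJ : A * (Matrix.of fun _ _ => (1 : ℝ)) = ((3 ^ i : ℕ) : ℝ) • (Matrix.of fun _ _ => (1 : ℝ)) := by
    ext a b
    simp only [A, Matrix.mul_apply, Matrix.of_apply, mul_one, Matrix.smul_apply, smul_eq_mul, Finset.sum_boole]
    rw [hcard _ (fun u hu => hu.1), hk _ a.2]
  have hsq : A * A = ((3 ^ j : ℕ) : ℝ) • (Matrix.of fun _ _ => (1 : ℝ)) - ((3 ^ j : ℕ) : ℝ) • A +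
      (((3 ^ i : ℕ) : ℝ) - (3 ^ j : ℕ)) • (1 : Matrix D D ℝ) := by
    ext a c
    have e : (A * A) a c = ((({u | u ∈ perp D (a : G) ∧ (c : G) ∈ perp D u} : Set G).ncard : ℕ) : ℝ) := by
      simp only [A, Matrix.mul_apply, Matrix.of_apply, ite_zero_mul_ite_zero, mul_one, Finset.sum_boole]
      rw [← hcard _ (fun u hu => hu.1.1)]
      simp only [Set.mem_setOf_eq]
    rw [e]
    simp only [Matrix.add_apply, Matrix.sub_apply, Matrix.smul_apply, Matrix.of_apply, smul_eq_mul, mul_one,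
      Matrix.one_apply, A]
    by_cases hac : a = c
    · subst hac
      have : ({u | u ∈ perp D (a : G) ∧ (a : G) ∈ perp D u} : Set G) = perp D (a : G) :=
        Set.ext fun u => ⟨fun hu => hu.1, fun hu => ⟨hu, perp_symm a.2 hu⟩⟩
      rw [this, hk _ a.2, if_neg (by simp [perp]), if_pos rfl]
      ring
    have hne : (a : G) ≠ c := fun e => hac (Subtype.ext e)
    by_cases hc : Commute (a : G) c
    · have : ({u | u ∈ perp D (a : G) ∧ (c : G) ∈ perp D u} : Set G) = ∅ := by
        ext u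
        simp only [Set.mem_setOf_eq, Set.mem_empty_iff_false, iff_false, not_and]
        intro hu hcu
        exact hno' a a.2 u hu c ⟨c.2, hne.symm, hc⟩ hcu.2.1 hcu.2.2.symm
      rw [this, Set.ncard_empty, if_pos ⟨c.2, hne.symm, hc⟩, if_neg hac]
      simp
    · have : ({u | u ∈ perp D (a : G) ∧ (c : G) ∈ perp D u} : Set G) = both D (a : G) c := by
        ext u
        constructor
        · rintro ⟨hu, hcu⟩; exact ⟨hu, hcu.2.2.symm⟩
        · rintro ⟨hu, hcu⟩
          exact ⟨hu, c.2, fun e => hc (by rw [e]; exact hu.2.2), hcu.symm⟩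
      rw [this, hμ a a.2 c c.2 hc, if_neg (fun e => hc e.2.2), if_neg hac]
      simp
  have hk3 : 3 ≤ 3 ^ i := le_self_pow₀ (by norm_num) (by omega)
  obtain ⟨hv, hsquare⟩ := srg_square A hA htr (3 ^ i) (3 ^ j) hk3 (Nat.one_le_pow _ _ (by norm_num)) hμk.le hJ hsq
  obtain ⟨rfl, rfl⟩ := params hji hsquare
  rw [← Nat.card_coe_set_eq, Nat.card_eq_fintype_card]
  omega

/-- Fischer's case of a noncentral odd core. -/
theorem iso_s5 (H : Hyp D) {x d d' : G} (hx : x ∈ D) (hb : Blk D x d d') :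
    Nonempty (G ≃* Equiv.Perm (Fin 5)) := by
  classical
  have h := H.cls
  have h10 := petersen H hx hb (no_edge H hx hb)
  obtain ⟨y, hy, hyd, hyx, hyd'⟩ := exists_y H hx hb
  obtain ⟨hd, hd', hdd', -⟩ := hb
  obtain ⟨φ, hinj, hφ0, -⟩ := Cfsg.Agent.Spor.FiveHom.exists_hom_s5 h.1 hd.1 hd'.1 hy hx hdd'
    (fun e => hyd' e.symm) hyx hyd.symm hd.2.2.symm hd'.2.2.symm (fun e => hyx (e ▸ hd.2.2.symm))
  set T : Finset (Equiv.Perm (Fin 5)) := (Finset.univ.filter fun p : Fin 5 × Fin 5 => p.1 < p.2).image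
    (fun p => Equiv.swap p.1 p.2) with hT
  have hTcard : T.card = 10 := by rw [hT]; decide
  have hTD : φ '' (T : Set (Equiv.Perm (Fin 5))) ⊆ D := by
    rintro _ ⟨σ, hσ, rfl⟩
    rw [hT, Finset.coe_image] at hσ
    obtain ⟨p, hp, rfl⟩ := hσ
    have hne : p.1 ≠ p.2 := ne_of_lt (Finset.mem_filter.mp hp).2
    obtain ⟨g, hg⟩ := isConj_iff.mp (Equiv.Perm.isConj_swap (show (0 : Fin 5) ≠ 1 by decide) hne)
    show φ (Equiv.swap p.1 p.2) ∈ D
    rw [← hg, map_mul, map_mul, map_inv, hφ0]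
    exact conj_mem h _ hd.1
  have himg : φ '' (T : Set (Equiv.Perm (Fin 5))) = D := by
    refine Set.eq_of_subset_of_ncard_le hTD ?_ (Set.toFinite _)
    rw [Set.ncard_image_of_injective _ hinj, Set.ncard_coe_finset, hTcard, h10]
  have hsurj : Function.Surjective φ := by
    rw [← MonoidHom.range_eq_top, eq_top_iff, ← h.2.2, Subgroup.closure_le, ← himg]
    exact Set.image_subset_range _ _
  exact ⟨(MulEquiv.ofBijective φ ⟨hinj, hsurj⟩).symm⟩

/-- A noncentral odd core gives two members with the same neighbours. -/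
theorem exists_blk (h : IsThreeTranspositionClass D) {x : G} (hx : x ∈ D)
    (hN : ¬ oddCore ↥(Subgroup.closure (perp D x)) ≤ Subgroup.center ↥(Subgroup.closure (perp D x))) :
    ∃ d d', Blk D x d d' := by
  classical
  have hs := h.1
  set L := Subgroup.closure (perp D x) with hL
  haveI : (oddCore L).Normal := Cfsg.pPrimeCore_normal 2 L
  obtain ⟨n, hn, hnc⟩ := SetLike.not_le_iff_exists.mp hN
  obtain ⟨d, hd, hdn⟩ : ∃ d ∈ perp D x, ¬ Commute d (n : G) := by
    by_contra hall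
    push Not at hall
    refine hnc (Subgroup.mem_center_iff.mpr fun g => Subtype.ext ?_)
    have : L ≤ Subgroup.centralizer ({(n : G)} : Set G) :=
      (Subgroup.closure_le _).mpr fun u hu => Subgroup.mem_centralizer_singleton_iff.mpr (hall u hu).eq
    exact Subgroup.mem_centralizer_singleton_iff.mp (this g.2)
  have hodd : Odd (Nat.card (oddCore L)) := by
    haveI : Fact (Nat.Prime 2) := ⟨Nat.prime_two⟩
    exact Nat.coprime_two_right.mp Cfsg.Agent.Grp.pPrimeCore_coprime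
  have hsq_one : ∀ w : L, w ∈ oddCore L → w ^ 2 = 1 → w = 1 := by
    intro w hw e
    have h1 : orderOf w ∣ 2 := orderOf_dvd_of_pow_eq_one e
    have h2 : orderOf w ∣ Nat.card (oddCore L) := by
      rw [← Subgroup.orderOf_mk w hw]; exact orderOf_dvd_natCard _
    exact orderOf_eq_one_iff.mp (Nat.eq_one_of_dvd_coprimes (Nat.coprime_two_left.mpr hodd) h1 h2)
  set d₁ : L := ⟨d, Subgroup.subset_closure hd⟩ with hd₁
  have hdd : d₁ * d₁ = 1 := Subtype.ext (dsq hs hd.1)
  set d₂ : L := n * d₁ * n⁻¹ with hd₂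
  have hd₂P : (d₂ : G) ∈ perp D x := by
    refine perp_conj' h ?_ hd
    exact localGroup_commute (Subgroup.closure_mono (Set.subset_insert _ _) n.2)
  have hmem : d₁ * d₂ ∈ oddCore L := by
    rw [hd₂, show d₁ * (n * d₁ * n⁻¹) = (d₁ * n * d₁⁻¹) * n⁻¹ by
      rw [inv_eq_of_mul_eq_one_right hdd]; simp [mul_assoc]]
    exact mul_mem ((inferInstance : (oddCore L).Normal).conj_mem n hn d₁) (inv_mem hn)
  have hne : d₁ ≠ d₂ := fun e => hdn (by
    have : n * d₁ = d₁ * n := by
      calc n * d₁ = (n * d₁ * n⁻¹) * n := by simp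
        _ = d₁ * n := by rw [← hd₂, ← e]
    exact (congrArg Subtype.val this).symm)
  have hncomm : ¬ Commute d (d₂ : G) := by
    intro c
    refine hne ?_
    have h1 : (d₁ * d₂) ^ 2 = 1 := by
      apply Subtype.ext
      simp only [SubmonoidClass.coe_pow, Subgroup.coe_mul, Subgroup.coe_one]
      exact sq_of_commute h hd.1 hd₂P.1 c
    have h2 := hsq_one _ hmem h1
    calc d₁ = d₁ * (d₁ * d₂) := by rw [h2, mul_one]
      _ = d₂ := by rw [← mul_assoc, hdd, one_mul]
  refine ⟨d, d₂, hd, hd₂P, hncomm, fun c hc hcne hcd => ?_⟩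
  by_contra hcd2
  set c₁ : L := ⟨c, Subgroup.subset_closure hc⟩ with hc₁
  have h3 : (c₁ * d₂) ^ 3 = 1 := by
    apply Subtype.ext
    simp only [SubmonoidClass.coe_pow, Subgroup.coe_mul, Subgroup.coe_one]
    exact pow_three_of_not_commute h hc.1 hd₂P.1 hcd2
  have hq : (c₁ * d₁) ^ 2 = 1 := by
    apply Subtype.ext
    simp only [SubmonoidClass.coe_pow, Subgroup.coe_mul, Subgroup.coe_one]
    exact sq_of_commute h hc.1 hd.1 hcd
  let π := QuotientGroup.mk' (oddCore L)
  have he : π (c₁ * d₂) = π (c₁ * d₁) := by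
    have : π (d₁ * d₂) = 1 := (QuotientGroup.eq_one_iff _).mpr hmem
    calc π (c₁ * d₂) = π ((c₁ * d₁) * (d₁ * d₂)) := by simp [mul_assoc, ← mul_assoc d₁ d₁, hdd]
      _ = _ := by rw [map_mul _ (c₁ * d₁), this, mul_one]
  have h1 : π (c₁ * d₁) = 1 := by
    have e2 : π (c₁ * d₁) ^ 2 = 1 := by rw [← map_pow, hq, map_one]
    have e3 : π (c₁ * d₁) ^ 3 = 1 := by rw [← he, ← map_pow, h3, map_one]
    rw [pow_succ, e2, one_mul] at e3
    exact e3
  have := hsq_one _ ((QuotientGroup.eq_one_iff _).mp h1) hq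
  refine hcne ?_
  have e : c * d = 1 := congrArg Subtype.val this
  rw [eq_inv_of_mul_eq_one_left e, inv_eq hs hd.1]

end Cfsg.Agent.Invol.FischerCore
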