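import Cfsg.Agent.Lib.Spor.ThreeTransRank
import Cfsg.Agent.Lib.Spor.ThreeTransPerp

/-! If two noncommuting members of `D_x` share their neighbours in `D_x`, then no two members of `D_x` commute. -/

set_option autoImplicit false
set_option linter.unusedSectionVars false

namespace Cfsg.Agent.Invol.FischerCore

open Cfsg Cfsg.Agent.Spor.ThreeTrans
open Cfsg.Agent.Spor.ThreeTrans renaming mul_self → dsq

variable {G : Type*} [Group G] [Finite G] {D : Set G}

/-- Conjugation by an involution. -/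
def cj (e a : G) : G := e * a * e

theorem cj_cj (hs : IsThreeTranspositionSet D) {e : G} (he : e ∈ D) (a : G) : cj e (cj e a) = a := by
  simp [cj, mul_assoc, dsq hs he, mul_self_mul hs he]

theorem cj_fix (hs : IsThreeTranspositionSet D) {e a : G} (he : e ∈ D) (h : Commute e a) : cj e a = a := by
  rw [cj, h.eq, mul_assoc, dsq hs he, mul_one]

theorem cj_braid (hs : IsThreeTranspositionSet D) {e a : G} (he : e ∈ D) (ha : a ∈ D) (h : ¬ Commute e a) :
    cj e a = cj a e := braid hs he ha h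

theorem cj_mem (h : IsThreeTranspositionClass D) {e a : G} (he : e ∈ D) (ha : a ∈ D) : cj e a ∈ D :=
  conj'_mem h he ha

theorem cj_comm {a b : G} (h : Commute a b) (u : G) : cj a (cj b u) = cj b (cj a u) := by
  have h1 : ∀ z, a * (b * z) = b * (a * z) := fun z => by rw [← mul_assoc, h.eq, mul_assoc]
  simp only [cj, mul_assoc]
  rw [h1, h.eq]

theorem cj_braid_op (hs : IsThreeTranspositionSet D) {a b : G} (ha : a ∈ D) (hb : b ∈ D) (h : ¬ Commute a b) (u : G) :
    cj a (cj b (cj a u)) = cj b (cj a (cj b u)) := by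
  have h1 := braid hs ha hb h
  calc cj a (cj b (cj a u)) = (a * b * a) * u * (a * b * a) := by simp [cj, mul_assoc]
    _ = (b * a * b) * u * (b * a * b) := by rw [h1]
    _ = _ := by simp [cj, mul_assoc]

theorem cj_iff (hs : IsThreeTranspositionSet D) {e : G} (he : e ∈ D) (a b : G) :
    Commute (cj e a) b ↔ Commute a (cj e b) := by
  have h1 : ∀ c, cj e c = e * c * e⁻¹ := fun c => by rw [inv_eq hs he]; rfl
  conv_lhs => rw [← cj_cj hs he b, h1, h1 (cj e b), commute_conj_iff]

theorem cj_inj (hs : IsThreeTranspositionSet D) {e : G} (he : e ∈ D) {a b : G} (h : cj e a = cj e b) : a = b := by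
  rw [← cj_cj hs he a, h, cj_cj hs he]

/-- The two members have the same neighbours in `D_x`. -/
def Blk (D : Set G) (x d d' : G) : Prop :=
  d ∈ perp D x ∧ d' ∈ perp D x ∧ ¬ Commute d d' ∧ ∀ c ∈ perp D x, c ≠ d → Commute c d → Commute c d'

theorem blk_conj (h : IsThreeTranspositionClass D) {x d d' g : G} (hg : Commute g x) (hb : Blk D x d d') :
    Blk D x (g * d * g⁻¹) (g * d' * g⁻¹) := by
  obtain ⟨hd, hd', hne, hall⟩ := hb
  refine ⟨perp_conj' h hg hd, perp_conj' h hg hd', fun c => hne ((commute_conj_iff g d d').mp c), ?_⟩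
  intro c hc hcne hcc
  obtain ⟨u, rfl⟩ : ∃ u, c = g * u * g⁻¹ := ⟨g⁻¹ * c * g, by simp [mul_assoc]⟩
  have hu : u ∈ perp D x := by
    have := perp_conj' h hg.inv_left hc
    simpa [mul_assoc] using this
  rw [commute_conj_iff] at hcc ⊢
  exact hall u hu (fun e => hcne (by rw [e])) hcc

/-- Fundamental lemma: a member commuting with `d` only, commutes with all common neighbours. -/
theorem commute_common (h : IsThreeTranspositionClass D) {x d d' y f : G} (hx : x ∈ D) (hb : Blk D x d d')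
    (hy : y ∈ D) (hyd : Commute y d) (hyx : ¬ Commute y x) (hyd' : ¬ Commute y d')
    (hf : f ∈ perp D x) (hfne : f ≠ d) (hfd : Commute f d) : Commute y f := by
  obtain ⟨hd, hd', hdd', hall⟩ := hb
  have hs := h.1
  have hfd' : Commute f d' := hall f hf hfne hfd
  obtain ⟨hfD, hfx, hxf⟩ := hf
  have hdD := hd.1
  have hd'D := hd'.1
  have hxd : Commute x d := hd.2.2
  have hxd' : Commute x d' := hd'.2.2
  by_contra hyf
  set t := cj y x with ht
  have htD : t ∈ D := cj_mem h hy hx
  have ht' : t = cj x y := cj_braid hs hy hx hyx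
  have htf : ¬ Commute t f := by
    rw [ht', cj_iff hs hx, cj_fix hs hx hxf]; exact hyf
  have htd' : ¬ Commute t d' := by
    rw [ht', cj_iff hs hx, cj_fix hs hx hxd']; exact hyd'
  have htd : Commute t d := by
    rw [ht', cj_iff hs hx, cj_fix hs hx hxd]; exact hyd
  set q := cj d' (cj f t) with hq
  set r := cj d' (cj y (cj d q)) with hr
  have hrD : r ∈ D := cj_mem h hd'D (cj_mem h hy (cj_mem h hdD (cj_mem h hd'D (cj_mem h hfD htD))))
  have h1 : Commute r x := by
    rw [hr, cj_iff hs hd'D, cj_fix hs hd'D hxd'.symm, cj_iff hs hy, ← ht, cj_iff hs hdD, cj_fix hs hdD htd.symm,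
      hq, cj_iff hs hd'D, cj_braid hs hd'D htD (fun c => htd' c.symm), cj_braid hs hfD htD (fun c => htf c.symm),
      cj_iff hs htD, cj_cj hs htD]
    exact hfd'
  have h2 : Commute r d := by
    rw [hr, cj_iff hs hd'D, cj_braid hs hd'D hdD (fun c => hdd' c.symm), cj_iff hs hy, cj_comm hyd, cj_iff hs hdD,
      cj_cj hs hdD, cj_braid hs hy hd'D hyd', hq, cj_iff hs hd'D, cj_cj hs hd'D, cj_iff hs hfD,
      cj_braid hs hfD hy (fun c => hyf c.symm), ← cj_iff hs hy, ht, cj_cj hs hy]
    exact hxf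
  have h3 : ¬ Commute r d' := by
    rw [hr, cj_iff hs hd'D, cj_fix hs hd'D (Commute.refl d'), cj_iff hs hy, cj_braid hs hy hd'D hyd', cj_iff hs hdD,
      hq, cj_iff hs hd'D, cj_braid_op hs hd'D hdD (fun c => hdd' c.symm), cj_fix hs hdD hyd.symm, cj_iff hs hfD,
      cj_comm hfd, cj_comm hfd', cj_braid hs hfD hy (fun c => hyf c.symm), ← cj_iff hs hdD, cj_fix hs hdD htd.symm,
      ← cj_iff hs hd'D, ← cj_iff hs hy, ht, cj_braid_op hs hy hd'D hyd', cj_fix hs hd'D hxd'.symm, cj_iff hs hd'D,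
      cj_fix hs hd'D hfd'.symm, ← ht]
    exact htf
  have h4 : r ≠ d := by
    intro e
    have e1 : cj d (cj y d') = cj d q := by
      have := congrArg (fun z => cj y (cj d' z)) e
      simp only [hr, cj_cj hs hd'D, cj_cj hs hy] at this
      rw [this, cj_braid hs hd'D hdD (fun c => hdd' c.symm), cj_comm hyd]
    have e2 := cj_inj hs hdD e1
    rw [cj_braid hs hy hd'D hyd', hq] at e2
    have e3 := cj_inj hs hd'D e2
    have e4 : cj f y = t := by rw [e3, cj_cj hs hfD]
    rw [cj_braid hs hfD hy (fun c => hyf c.symm), ht] at e4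
    exact hfx (cj_inj hs hy e4)
  exact h3 (hall r ⟨hrD, fun e => h3 (e ▸ hxd'), h1.symm⟩ h4 h2)



/-- Two members with the same neighbours coincide. -/
theorem eq_of_perp_eq (H : Hyp D) {a b : G} (ha : a ∈ D) (hb : b ∈ D) (he : perp D a = perp D b) : a = b := by
  refine sys_trivial H (isSys_perpThree H.cls) ?_ ⟨ha, hb, he⟩
  obtain ⟨c, hc⟩ := perp_nonempty H ha
  refine ⟨a, ha, c, hc.1, fun hr => ?_⟩
  exact perpThree_not_commute hr (fun e => hc.2.1 e.symm) hc.2.2


theorem perp_symm {a b : G} (hb : b ∈ D) (h : a ∈ perp D b) : b ∈ perp D a := ⟨hb, fun e => h.2.1 e.symm, h.2.2.symm⟩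

/-- All members have as many neighbours. -/
theorem perp_card (h : IsThreeTranspositionClass D) {a b : G} (ha : a ∈ D) (hb : b ∈ D) :
    (perp D a).ncard = (perp D b).ncard := by
  obtain ⟨g, rfl⟩ := transitive h ha hb
  rw [perp_conj h, Set.ncard_image_of_injective _ fun u v e => by simpa using e]

theorem not_subset (H : Hyp D) {a b : G} (ha : a ∈ D) (hb : b ∈ D) (hne : a ≠ b) : ¬ perp D a ⊆ perp D b :=
  fun hsub => hne (eq_of_perp_eq H ha hb (Set.eq_of_subset_of_ncard_le hsub (perp_card H.cls hb ha).le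
    (Set.toFinite _)))

/-- There is a member commuting with `d`, with neither `x` nor `d'`. -/
theorem exists_y (H : Hyp D) {x d d' : G} (hx : x ∈ D) (hb : Blk D x d d') :
    ∃ y ∈ D, Commute y d ∧ ¬ Commute y x ∧ ¬ Commute y d' := by
  obtain ⟨hd, hd', hdd', hall⟩ := hb
  by_contra hno
  push Not at hno
  refine not_subset H hd.1 hd'.1 (fun e => hdd' (e ▸ Commute.refl d)) fun y hy => ?_
  obtain ⟨hyD, hyne, hyd⟩ := hy
  refine ⟨hyD, fun e => hdd' (e ▸ hyd), ?_⟩
  by_cases hyx : Commute y x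
  · by_cases hyx' : y = x
    · rw [hyx']; exact hd'.2.2.symm
    · exact (hall y ⟨hyD, hyx', hyx.symm⟩ hyne hyd.symm).symm
  · exact (hno y hyD hyd.symm hyx).symm

/-- No two members of `D_x` commute. -/
theorem no_edge (H : Hyp D) {x d d' : G} (hx : x ∈ D) (hb : Blk D x d d') :
    ∀ u ∈ perp D x, ∀ c ∈ perp D x, c ≠ u → ¬ Commute c u := by
  have h := H.cls
  have hs := h.1
  intro u₀ hu₀ c₀ hc₀ hne₀ hcu₀
  -- move the pair to `d`
  obtain ⟨g₀, hg₀, hgu⟩ := transitive_perp H hx hu₀ hb.1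
  have hg₀x : Commute g₀ x := localGroup_commute (Subgroup.closure_mono (Set.subset_insert _ _) hg₀)
  set c := g₀ * c₀ * g₀⁻¹ with hcdef
  have hc : c ∈ perp D x := perp_conj' h hg₀x hc₀
  have hcne : c ≠ d := by
    rw [← hgu]; intro e; exact hne₀ (by simpa [hcdef] using e)
  have hcd : Commute c d := by rw [← hgu]; exact (commute_conj_iff g₀ c₀ u₀).mpr hcu₀
  clear_value c
  obtain ⟨y, hy, hyd, hyx, hyd'⟩ := exists_y H hx hb
  obtain ⟨g, hg, hgc⟩ := transitive_perp H hx hb.1 hc
  have hgx : Commute g x := localGroup_commute (Subgroup.closure_mono (Set.subset_insert _ _) hg)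
  set c' := g * d' * g⁻¹ with hc'
  set y' := g * y * g⁻¹ with hy'
  have hbc : Blk D x c c' := by rw [← hgc]; exact blk_conj h hgx hb
  have hy'D : y' ∈ D := conj_mem h g hy
  have hy'c : Commute y' c := by rw [← hgc]; exact (commute_conj_iff g y d).mpr hyd
  have hy'x : ¬ Commute y' x := by
    rw [← conj_self_eq hgx]; exact fun e => hyx ((commute_conj_iff g y x).mp e)
  have hy'c' : ¬ Commute y' c' := fun e => hyd' ((commute_conj_iff g y d').mp e)
  obtain ⟨hd, hd', hdd', hall⟩ := hb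
  obtain ⟨-, hc'P, hcc', hallc⟩ := hbc
  clear_value c' y'
  have hb : Blk D x d d' := ⟨hd, hd', hdd', hall⟩
  have hbc : Blk D x c c' := ⟨hc, hc'P, hcc', hallc⟩
  have hc'd : Commute c' d := (hallc d hd (fun e => hcne e.symm) hcd.symm).symm
  have hc'ne : c' ≠ d := fun e => hcc' (e ▸ hcd)
  have hc'd' : Commute c' d' := hall c' hc'P hc'ne hc'd
  have hcd' : Commute c d' := hall c hc hcne hcd
  have hcne' : c ≠ d' := fun e => hdd' (e ▸ hcd).symm
  have hyc : Commute y c := commute_common h hx hb hy hyd hyx hyd' hc hcne hcd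
  have hyc' : Commute y c' := commute_common h hx hb hy hyd hyx hyd' hc'P hc'ne hc'd
  have hy'd : Commute y' d := commute_common h hx hbc hy'D hy'c hy'x hy'c' hd (fun e => hcne e.symm) hcd.symm
  have hy'd' : Commute y' d' := commute_common h hx hbc hy'D hy'c hy'x hy'c' hd' (fun e => hcne' e.symm) hcd'.symm
  have hxd : Commute x d := hd.2.2
  have hxd' : Commute x d' := hd'.2.2
  by_cases hyy : Commute y y'
  · set r := cj y' (cj x y) with hr
    have hrD : r ∈ D := cj_mem h hy'D (cj_mem h hx hy)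
    have h1 : Commute r x := by
      rw [hr, cj_iff hs hy'D, cj_braid hs hy'D hx hy'x, cj_iff hs hx, cj_cj hs hx]
      exact hyy
    have h2 : Commute r d := by
      rw [hr, cj_iff hs hy'D, cj_fix hs hy'D hy'd, cj_iff hs hx, cj_fix hs hx hxd]
      exact hyd
    have h3 : ¬ Commute r d' := by
      rw [hr, cj_iff hs hy'D, cj_fix hs hy'D hy'd', cj_iff hs hx, cj_fix hs hx hxd']
      exact hyd'
    have h4 : r ≠ d := fun e => by
      have e1 : cj x y = d := by
        rw [← cj_cj hs hy'D (cj x y), ← hr, e, cj_fix hs hy'D hy'd]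
      have e2 : y = d := by rw [← cj_cj hs hx y, e1, cj_fix hs hx hxd]
      exact hyx (e2 ▸ hxd.symm)
    exact h3 (hall r ⟨hrD, fun e => h3 (e ▸ hxd'), h1.symm⟩ h4 h2)
  · set u := cj y' y with hu
    have huD : u ∈ D := cj_mem h hy'D hy
    have hu' : u = cj y y' := cj_braid hs hy'D hy (fun e => hyy e.symm)
    have h2 : Commute u d := by rw [hu, cj_iff hs hy'D, cj_fix hs hy'D hy'd]; exact hyd
    have h3 : ¬ Commute u d' := by rw [hu, cj_iff hs hy'D, cj_fix hs hy'D hy'd']; exact hyd'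
    have h5 : ¬ Commute u c' := by rw [hu', cj_iff hs hy, cj_fix hs hy hyc']; exact hy'c'
    have h4 : u ≠ d := fun e => h5 (e ▸ hc'd.symm)
    by_cases hux : Commute u x
    · exact h3 (hall u ⟨huD, fun e => h3 (e ▸ hxd'), hux.symm⟩ h4 h2)
    · exact h5 (commute_common h hx hb huD h2 hux h3 hc'P hc'ne hc'd)

end Cfsg.Agent.Invol.FischerCore
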